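import Cfsg.Agent.Lib.Helper28.SuzOrd.C2160.ChkP0
import Cfsg.Agent.Lib.Helper28.SuzOrd.C2160.ChkP1
import Cfsg.Agent.Lib.Helper28.SuzOrd.C2160.ChkF0
import Cfsg.Agent.Lib.Helper28.SuzOrd.C2160.ChkF1
import Cfsg.Agent.Lib.Helper28.SuzOrd.C2160.ChkF2
import Cfsg.Agent.Lib.Helper28.SuzOrd.C2160.ChkC0

set_option autoImplicit false
set_option linter.unusedVariables false

namespace Cfsg.Agent.Lib.Helper28.SuzOrd.C2160

open Cfsg.Agent.Lib.Helper28.SuzSub.P4 (Gen)
open Cfsg.Agent.Lib.Helper28.TC

noncomputable section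

def NNpad : ℕ := 12800
def wHot : ℕ := 30
theorem permP_allk : ∀ k, k < 68 → allRange (guard nn permP) 5 (k * 2 ^ 5) = true := by
  intro k hk
  by_cases h0 : k < 48
  · exact permP_f0 k (by omega) h0
  by_cases h1 : k < 68
  · exact permP_f1 k (by omega) h1
  omega
theorem permP_all : ∀ i, i < nn → permP i = true :=
  all_of_blocks nn permP 5 68 (by decide) permP_allk

theorem factP_allk : ∀ k, k < 200 → allRange factP 6 (k * 2 ^ 6) = true := by
  intro k hk
  by_cases h0 : k < 96
  · exact factP_f0 k (by omega) h0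
  by_cases h1 : k < 192
  · exact factP_f1 k (by omega) h1
  by_cases h2 : k < 200
  · exact factP_f2 k (by omega) h2
  omega
theorem factP_all : ∀ i, i < NNpad → factP i = true :=
  allBlocks_spec factP 6 200 factP_allk

theorem closedP_allk : ∀ k, k < 9 → allRange (guard nn closedP) 8 (k * 2 ^ 8) = true := by
  intro k hk
  by_cases h0 : k < 9
  · exact closedP_f0 k (by omega) h0
  omega
theorem closedP_all : ∀ i, i < nn → closedP i = true :=
  all_of_blocks nn closedP 8 9 (by decide) closedP_allk

theorem hotA_lt : hotA < 2 ^ (30 * 12800) := by decide +kernel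
theorem hotE0_lt : hotE0 < 2 ^ (30 * 12800) := by decide +kernel
theorem hotE1_lt : hotE1 < 2 ^ (30 * 12800) := by decide +kernel
theorem hotE2_lt : hotE2 < 2 ^ (30 * 12800) := by decide +kernel
theorem hotE3_lt : hotE3 < 2 ^ (30 * 12800) := by decide +kernel
theorem subFix : allList (fun w => Nat.beq (act tf w 0) 0) subWords = true := by decide +kernel

end

end Cfsg.Agent.Lib.Helper28.SuzOrd.C2160
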