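import Cfsg.Agent.Lib.Helper28.SuzOrd.C2160.DataE0
import Cfsg.Agent.Lib.Helper28.SuzOrd.C2160.DataE1
import Cfsg.Agent.Lib.Helper28.SuzOrd.C2160.DataE2
import Cfsg.Agent.Lib.Helper28.SuzOrd.C2160.DataE3
import Cfsg.Agent.Lib.Helper28.SuzOrd.C2160.DataA

set_option autoImplicit false
set_option linter.unusedVariables false

namespace Cfsg.Agent.Lib.Helper28.SuzOrd.C2160

open Cfsg.Agent.Lib.Helper28.SuzSub.P4 (Gen)
open Cfsg.Agent.Lib.Helper28.TC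

noncomputable section

/-- the generators -/
def gens : List Gen := [Gen.a, Gen.b, Gen.c, Gen.d]

theorem mem_gens (x : Gen) : x ∈ gens := by cases x <;> decide

/-- decode a generator -/
def genOf (c : ℕ) : Gen := Nat.rec (motive := fun _ => Gen) Gen.a (fun c _ => Nat.rec (motive := fun _ => Gen) Gen.b (fun c _ => Nat.rec (motive := fun _ => Gen) Gen.c (fun c _ => Gen.d) c) c) c

def hotE (x : Gen) : ℕ := Gen.rec (motive := fun _ => ℕ) hotE0 hotE1 hotE2 hotE3 x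
def coldE (x : Gen) : ℕ := Gen.rec (motive := fun _ => ℕ) coldE0 coldE1 coldE2 coldE3 x
def tfT (x : Gen) : ℕ := Gen.rec (motive := fun _ => ℕ) tfT0 tfT1 tfT2 tfT3 x

def entH (x : Gen) (u : ℕ) : ℕ := look (hotE x) 30 1073741823 u
def jEc (x : Gen) (u : ℕ) : ℕ := look (coldE x) 38 274877906943 u
def alH (k : ℕ) : ℕ := look hotA 30 1073741823 k
def jAc (k : ℕ) : ℕ := look coldA 80 1208925819614629174706175 k
def treeE (k : ℕ) : ℕ := look treeT 30 1073741823 k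
/-- the final coset table -/
def tf (x : Gen) (i : ℕ) : ℕ := look (tfT x) 12 4095 i
/-- the final coset number of a row -/
def fin (k : ℕ) : ℕ := Nat.shiftRight (treeE k) 18
/-- the designated row of a final coset -/
def rowOf (i : ℕ) : ℕ := look rowT 14 16383 i

/-- the cycle words with their reverses and lengths -/
def cycs : List (List Gen × List Gen × ℕ) := [
  ([Gen.a, Gen.a], [Gen.a, Gen.a], 2),
  ([Gen.a, Gen.b, Gen.a, Gen.b, Gen.a, Gen.b, Gen.a, Gen.b, Gen.a, Gen.b], [Gen.b, Gen.a, Gen.b, Gen.a, Gen.b, Gen.a, Gen.b, Gen.a, Gen.b, Gen.a], 10),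
  ([Gen.a, Gen.c, Gen.a, Gen.c], [Gen.c, Gen.a, Gen.c, Gen.a], 4),
  ([Gen.a, Gen.d, Gen.a, Gen.d], [Gen.d, Gen.a, Gen.d, Gen.a], 4),
  ([Gen.b, Gen.a, Gen.b, Gen.a, Gen.b, Gen.a, Gen.b, Gen.a, Gen.b, Gen.a], [Gen.a, Gen.b, Gen.a, Gen.b, Gen.a, Gen.b, Gen.a, Gen.b, Gen.a, Gen.b], 10),
  ([Gen.b, Gen.b], [Gen.b, Gen.b], 2),
  ([Gen.b, Gen.c, Gen.b, Gen.c, Gen.b, Gen.c], [Gen.c, Gen.b, Gen.c, Gen.b, Gen.c, Gen.b], 6),
  ([Gen.b, Gen.d, Gen.b, Gen.d], [Gen.d, Gen.b, Gen.d, Gen.b], 4),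
  ([Gen.c, Gen.a, Gen.c, Gen.a], [Gen.a, Gen.c, Gen.a, Gen.c], 4),
  ([Gen.c, Gen.b, Gen.c, Gen.b, Gen.c, Gen.b], [Gen.b, Gen.c, Gen.b, Gen.c, Gen.b, Gen.c], 6),
  ([Gen.c, Gen.c], [Gen.c, Gen.c], 2),
  ([Gen.c, Gen.d, Gen.c, Gen.d, Gen.c, Gen.d, Gen.c, Gen.d, Gen.c, Gen.d, Gen.c, Gen.d, Gen.c, Gen.d, Gen.c, Gen.d], [Gen.d, Gen.c, Gen.d, Gen.c, Gen.d, Gen.c, Gen.d, Gen.c, Gen.d, Gen.c, Gen.d, Gen.c, Gen.d, Gen.c, Gen.d, Gen.c], 16),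
  ([Gen.d, Gen.a, Gen.d, Gen.a], [Gen.a, Gen.d, Gen.a, Gen.d], 4),
  ([Gen.d, Gen.b, Gen.d, Gen.b], [Gen.b, Gen.d, Gen.b, Gen.d], 4),
  ([Gen.d, Gen.c, Gen.d, Gen.c, Gen.d, Gen.c, Gen.d, Gen.c, Gen.d, Gen.c, Gen.d, Gen.c, Gen.d, Gen.c, Gen.d, Gen.c], [Gen.c, Gen.d, Gen.c, Gen.d, Gen.c, Gen.d, Gen.c, Gen.d, Gen.c, Gen.d, Gen.c, Gen.d, Gen.c, Gen.d, Gen.c, Gen.d], 16),
  ([Gen.d, Gen.d], [Gen.d, Gen.d], 2),
  ([Gen.a, Gen.d, Gen.c, Gen.d, Gen.c, Gen.d, Gen.c, Gen.d, Gen.c], [Gen.c, Gen.d, Gen.c, Gen.d, Gen.c, Gen.d, Gen.c, Gen.d, Gen.a], 9)]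

/-- the relator words -/
def relWords : List (List Gen) := [
  [Gen.a, Gen.a],
  [Gen.a, Gen.b, Gen.a, Gen.b, Gen.a, Gen.b, Gen.a, Gen.b, Gen.a, Gen.b],
  [Gen.a, Gen.c, Gen.a, Gen.c],
  [Gen.a, Gen.d, Gen.a, Gen.d],
  [Gen.b, Gen.a, Gen.b, Gen.a, Gen.b, Gen.a, Gen.b, Gen.a, Gen.b, Gen.a],
  [Gen.b, Gen.b],
  [Gen.b, Gen.c, Gen.b, Gen.c, Gen.b, Gen.c],
  [Gen.b, Gen.d, Gen.b, Gen.d],
  [Gen.c, Gen.a, Gen.c, Gen.a],
  [Gen.c, Gen.b, Gen.c, Gen.b, Gen.c, Gen.b],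
  [Gen.c, Gen.c],
  [Gen.c, Gen.d, Gen.c, Gen.d, Gen.c, Gen.d, Gen.c, Gen.d, Gen.c, Gen.d, Gen.c, Gen.d, Gen.c, Gen.d, Gen.c, Gen.d],
  [Gen.d, Gen.a, Gen.d, Gen.a],
  [Gen.d, Gen.b, Gen.d, Gen.b],
  [Gen.d, Gen.c, Gen.d, Gen.c, Gen.d, Gen.c, Gen.d, Gen.c, Gen.d, Gen.c, Gen.d, Gen.c, Gen.d, Gen.c, Gen.d, Gen.c],
  [Gen.d, Gen.d],
  [Gen.a, Gen.d, Gen.c, Gen.d, Gen.c, Gen.d, Gen.c, Gen.d, Gen.c]]

/-- the subgroup generator words -/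
def subWords : List (List Gen) := [
  ]

/-- expressions of the further relators -/
def extraE : List (WE Gen) := [
  (WE.mul (WE.of Gen.a) (WE.inv (WE.pow (WE.mul (WE.of Gen.c) (WE.of Gen.d)) 4)))]

/-- expressions of the subgroup generators -/
def subE : List (WE Gen) := [
  ]

/-- the certificate -/
def C : Cert Gen where
  par := fun k => Nat.land (treeE k) 16383
  gn := fun k => genOf (Nat.land (Nat.shiftRight (treeE k) 14) 15)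
  ent := fun x u => Nat.land (entH x u) 16383
  rkE := fun x u => Nat.shiftRight (entH x u) 14
  jEk := fun x u => Nat.land (jEc x u) 3
  jEa := fun x u => Nat.land (Nat.shiftRight (jEc x u) 2) 16383
  jEp := fun x u => Nat.land (Nat.shiftRight (jEc x u) 16) 255
  jEz := fun x u => Nat.shiftRight (jEc x u) 24
  al := fun k => Nat.land (alH k) 16383
  rkA := fun k => Nat.shiftRight (alH k) 14
  jAx := fun k => genOf (Nat.land (jAc k) 15)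
  jA1k := fun k => Nat.land (Nat.shiftRight (jAc k) 4) 3
  jA1a := fun k => Nat.land (Nat.shiftRight (jAc k) 6) 16383
  jA1p := fun k => Nat.land (Nat.shiftRight (jAc k) 20) 255
  jA1z := fun k => Nat.land (Nat.shiftRight (jAc k) 28) 16383
  jA2k := fun k => Nat.land (Nat.shiftRight (jAc k) 42) 3
  jA2a := fun k => Nat.land (Nat.shiftRight (jAc k) 44) 16383
  jA2p := fun k => Nat.land (Nat.shiftRight (jAc k) 58) 255
  jA2z := fun k => Nat.land (Nat.shiftRight (jAc k) 66) 16383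
  cycW := fun ci => (nthD cycs ci ([], [], 0)).1
  cycR := fun ci => (nthD cycs ci ([], [], 0)).2.1
  cycL := fun ci => (nthD cycs ci ([], [], 0)).2.2
  cycA := fun ci => Nat.ble 17 ci
  fuel := 7

def NN : ℕ := 12780
def nn : ℕ := 2160
def RR : ℕ := 42269


end

end Cfsg.Agent.Lib.Helper28.SuzOrd.C2160
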